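import Groth.Agent.AlgSpDec.SchImageChart
import Groth.Agent.AlgSpDec.MinimalNonScheme
import Groth.Agent.S9979

/-!
# Scheme theoretic images of quasi-compact morphisms and etale base change
-/

set_option backward.isDefEq.respectTransparency false
set_option backward.isDefEq.respectTransparency.types false

universe u

open CategoryTheory CategoryTheory.Limits AlgebraicGeometry TopologicalSpace AlgSp Groth.Agent.AlgSpLib Groth.Agent.AlgSpPts

namespace Groth.Agent.SchImBC

open Groth.Agent.AlgSpDec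

variable {S : Scheme.{u}} {X Y Z : Sp S}

theorem isSchImage_etale_baseChange (hX : IsAlgSpace X) (hY : IsAlgSpace Y) {f : X ⟶ Y} {i : Z ⟶ Y}
    (hq : IsQuasiCompactMor f) (hi : IsSchImage f i) {V XV ZV : Sp S} (hV : IsAlgSpace V) {β : V ⟶ Y}
    (hβ : IsEtaleMor β) {f₁ : XV ⟶ X} {fV : XV ⟶ V} {i₁ : ZV ⟶ Z} {iV : ZV ⟶ V}
    (hf : IsPullback f₁ fV f β) (hiV : IsPullback i₁ iV i β) : IsSchImage fV iV := by
  have hicl : RepWith @IsClosedImmersion iV := repWith_of_isPullback hiV hi.1
  obtain ⟨f', hf'⟩ := hi.2.1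
  refine ⟨hicl, ⟨hiV.lift (f₁ ≫ f') fV (by rw [Category.assoc, hf', hf.w]), hiV.lift_snd _ _ _⟩,
    fun Z' j _ hj hfac => ?_⟩
  obtain ⟨g, hg⟩ := hfac
  obtain ⟨U, T, b, c, k, hb, hbs, hc, hcs, hk, hkq⟩ := exists_qc_chart hX hY hq
  haveI := hkq
  obtain ⟨V₀, v, hv, hvs⟩ := hV.atlas
  -- the chart of the base change
  let U' := hb.rep.pullback (v ≫ β)
  let π : U' ⟶ V₀ := hb.rep.snd (v ≫ β)
  let p : U' ⟶ U := hb.rep.fst' (v ≫ β)
  haveI : Etale π.left := hb.property_snd (v ≫ β)
  haveI : Etale p.left := (hβ v hv).property _ _ _ (hb.rep.isPullback' (v ≫ β)).flip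
  haveI : Surjective π.left := hbs.property _ _ _ (hb.rep.isPullback (v ≫ β))
  let b' : (yon S).obj U' ⟶ V := (yon S).map π ≫ v
  have hb' : RepWith @Etale b' := repWith_comp ((repWith_yon_map_iff _ _).2 (inferInstanceAs (Etale π.left))) hv
  have hbs' : RepWith @Surjective b' :=
    repWith_comp ((repWith_yon_map_iff _ _).2 (inferInstanceAs (Surjective π.left))) hvs
  have hbp : (yon S).map p ≫ b = b' ≫ β := by
    rw [Category.assoc]
    exact (hb.rep.isPullback' (v ≫ β)).w
  have sqT : IsPullback ((yon S).map (pullback.fst k p)) ((yon S).map (pullback.snd k p)) ((yon S).map k)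
      ((yon S).map p) := (IsPullback.of_hasPullback k p).map (yon S)
  let k' : pullback k p ⟶ U' := pullback.snd k p
  let x : (yon S).obj (pullback k p) ⟶ XV :=
    hf.lift ((yon S).map (pullback.fst k p) ≫ c ≫ pullback.fst f b) ((yon S).map k' ≫ b') (by
      rw [Category.assoc, Category.assoc, Category.assoc, pullback.condition, reassoc_of% hk,
        ← Functor.map_comp_assoc, pullback.condition, Functor.map_comp_assoc, hbp])
  haveI : Mono j := mono_of_closedImmersion hj
  refine (ker_le_iff_exists_factor hj hb' hbs' hicl).1 ?_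
  haveI : IsClosedImmersion (hj.rep.snd b').left := hj.property_snd b'
  have h1 : (hj.rep.snd b').left.ker ≤ k'.left.ker :=
    (factor_iff_ker_le _ k').1 ((factor_iff_of_isPullback (hj.rep.isPullback b') k').2
      ⟨x ≫ g, by rw [Category.assoc, hg, hf.lift_snd]⟩)
  have h4 : k'.left.ker = k.left.ker.comap p.left := by
    have sq := (IsPullback.of_hasPullback k p).map (Over.forget S)
    rw [← Groth.Agent.S4667.result k.left p.left, ← Scheme.Hom.ker_comp_of_isIso sq.isoPullback.hom]
    congr 1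
    exact sq.isoPullback_hom_snd.symm
  refine h1.trans (h4.le.trans ?_)
  rw [← Scheme.IdealSheafData.le_map_iff_comap_le, ← Scheme.Hom.ker_comp, ← Over.comp_left,
    ← schImage_chart hX hY hb hbs hc hcs hk hi]
  haveI : IsClosedImmersion (hi.1.rep.snd b).left := hi.1.property_snd b
  refine (factor_iff_ker_le _ _).1 ((factor_iff_of_isPullback (hi.1.rep.isPullback b) _).2
    ⟨hicl.rep.fst b' ≫ i₁, ?_⟩)
  rw [Category.assoc, hiV.w, ← Category.assoc, (hicl.rep.isPullback b').w, Category.assoc, Functor.map_comp]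
  exact (congrArg (((yon S).map (hicl.rep.snd b')) ≫ ·) hbp.symm).trans (Category.assoc _ _ _).symm

end Groth.Agent.SchImBC
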